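import Groth.Agent.FibDesc.K781.Defs2
import Groth.Agent.Cohder.RDAcyc
import Groth.Agent.Dcoh.DerHo
import Groth.Agent.CohtopA.Flasque
import Groth.Agent.CohtopB.NegVanish
import Mathlib.Topology.Sheaves.Abelian

/-!
# Quasi-isomorphisms of complexes of flasque sheaves on a space
-/

set_option autoImplicit false
set_option backward.isDefEq.respectTransparency false
set_option backward.isDefEq.respectTransparency.types false

universe v u

open CategoryTheory CategoryTheory.Limits ComplexShape Opposite TopologicalSpace K781.Desc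

namespace K781.Flq

variable {X : TopCat.{u}}

/-- The abelian sheaves on `X`. -/
abbrev Sh (X : TopCat.{u}) := Sheaf (Opens.grothendieckTopology X) AddCommGrpCat.{u}

theorem isFlasque_of_injective (F : Sheaf (Opens.grothendieckTopology X) AddCommGrpCat.{u}) [Injective F] :
    TopCat.Presheaf.IsFlasque F.obj :=
  Groth.Agent.CohtopA.Flasque.isFlasque_of_injective F

instance (U : Opens X) : (Γ U).Additive where

instance (U : Opens X) : PreservesFiniteLimits (Γ (X := X) U) := inferInstance

/-- Sections over an open are exact on short exact sequences with flasque kernel. -/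
theorem shortExact_sections {S : ShortComplex (Sh X)} (hS : S.ShortExact)
    (h : TopCat.Presheaf.IsFlasque S.X₁.obj) (U : Opens X) : (S.map (Γ U)).ShortExact := by
  have := hS.mono_f
  have := hS.epi_g
  have : Mono (S.map (Γ U)).f := inferInstanceAs (Mono ((Γ U).map S.f))
  have h3 : (S.map (Γ U)).Exact := by
    have := ((Γ (X := X) U).preservesFiniteLimits_tfae.out 3 1 :)
    exact ((this.1 inferInstance) S ⟨hS.exact, inferInstance⟩).1
  have h4 : Epi (S.map (Γ U)).g := TopCat.Sheaf.IsFlasque.epi_of_shortExact hS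
  exact { exact := h3 }


/-- A quotient of a flasque sheaf by a flasque subsheaf is flasque. -/
theorem flasque_X₃ {S : ShortComplex (Sh X)} (hS : S.ShortExact)
    (h₁ : TopCat.Presheaf.IsFlasque S.X₁.obj) (h₂ : TopCat.Presheaf.IsFlasque S.X₂.obj) :
    TopCat.Presheaf.IsFlasque S.X₃.obj := by
  have h₁' : TopCat.Sheaf.IsFlasque S.X₁ := h₁
  have h₂' : TopCat.Sheaf.IsFlasque S.X₂ := h₂
  exact TopCat.Sheaf.IsFlasque.of_shortExact_of_isFlasque₁₂ hS

theorem flasque_of_isZero (F : Sh X) (hF : IsZero F) : TopCat.Presheaf.IsFlasque F.obj := by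
  have := hF.injective
  exact isFlasque_of_injective F

/-- In a bounded below acyclic complex of flasque sheaves all cycles are flasque. -/
theorem flasque_cycles {K : CochainComplex (Sh X) ℤ} (hK : BB K) (hac : K.Acyclic)
    (fK : ∀ n, TopCat.Presheaf.IsFlasque (K.X n).obj) (p : ℤ) :
    TopCat.Presheaf.IsFlasque (K.cycles p).obj := by
  obtain ⟨a, ha⟩ := hK
  have h : ∀ (m : ℕ) (p : ℤ) (_ : p ≤ a - 1 + m), TopCat.Presheaf.IsFlasque (K.cycles p).obj := by
    intro m
    induction m with
    | zero =>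
      intro p hp
      have h0 : IsZero (K.X p) := ha p (by simp at hp; lia)
      have h1 : IsZero (K.cycles p) := by
        rw [IsZero.iff_id_eq_zero, ← cancel_mono (K.iCycles p)]
        exact h0.eq_of_tgt _ _
      exact flasque_of_isZero _ h1
    | succ m ih =>
      intro p hp
      exact flasque_X₃ (Groth.Agent.Cohder.RDAcyc.cycles_shortExact hac (p - 1) p (by lia))
        (ih (p - 1) (by push_cast at hp; lia)) (fK _)
  exact h (p - (a - 1)).toNat p (by have := Int.self_le_toNat (p - (a - 1)); lia)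

open Groth.Agent.Cohder.RDAcyc in
/-- Sections of a bounded below acyclic complex of flasque sheaves are acyclic. -/
theorem acyclic_sections {K : CochainComplex (Sh X) ℤ} (hK : BB K) (hac : K.Acyclic)
    (fK : ∀ n, TopCat.Presheaf.IsFlasque (K.X n).obj) (U : Opens X) :
    (((Γ U).mapHomologicalComplex (up ℤ)).obj K).Acyclic := by
  intro q
  have h1 := shortExact_sections (cycles_shortExact hac (q - 1) q (by lia))
    (flasque_cycles hK hac fK _) U
  have h2 := shortExact_sections (cycles_shortExact hac q (q + 1) rfl)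
    (flasque_cycles hK hac fK _) U
  have h3 : Mono ((Γ U).map (K.iCycles (q + 1))) := inferInstance
  have h4 : Epi ((Γ U).map (K.toCycles (q - 1) q)) := h1.epi_g
  rw [HomologicalComplex.exactAt_iff' _ (q - 1) q (q + 1) (by simp) (by simp)]
  exact exact_of_factor ((Γ U).map (K.toCycles (q - 1) q)) ((Γ U).map (K.iCycles q))
    ((Γ U).map (K.toCycles q (q + 1))) ((Γ U).map (K.iCycles (q + 1)))
    (by rw [← (Γ U).map_comp, iCycles_toCycles, (Γ U).map_zero]) h2.exact h4 h3 _ _
    (by rw [← (Γ U).map_comp, HomologicalComplex.toCycles_i]; rfl)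
    (by rw [← (Γ U).map_comp, HomologicalComplex.toCycles_i]; rfl)
    (HomologicalComplex.d_comp_d _ _ _ _)

/-- The biproduct of two flasque sheaves is flasque. -/
theorem flasque_biprod (F G : Sh X) (hF : TopCat.Presheaf.IsFlasque F.obj)
    (hG : TopCat.Presheaf.IsFlasque G.obj) : TopCat.Presheaf.IsFlasque (F ⊞ G).obj where
  epi {U V} i := by
    have hF' := hF.epi i
    have hG' := hG.epi i
    rw [AddCommGrpCat.epi_iff_surjective] at hF' hG' ⊢
    intro s
    let p₁ : (F ⊞ G).obj.obj V →+ F.obj.obj V := ((biprod.fst : F ⊞ G ⟶ F).hom.app V).hom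
    let p₂ : (F ⊞ G).obj.obj V →+ G.obj.obj V := ((biprod.snd : F ⊞ G ⟶ G).hom.app V).hom
    obtain ⟨a, ha⟩ := hF' (p₁ s)
    obtain ⟨b, hb⟩ := hG' (p₂ s)
    have e1 : ((biprod.inl : F ⟶ F ⊞ G).hom.app V) (F.obj.map i a) =
        (F ⊞ G).obj.map i (((biprod.inl : F ⟶ F ⊞ G).hom.app U) a) :=
      ConcreteCategory.congr_hom ((biprod.inl : F ⟶ F ⊞ G).hom.naturality i) a
    have e2 : ((biprod.inr : G ⟶ F ⊞ G).hom.app V) (G.obj.map i b) =
        (F ⊞ G).obj.map i (((biprod.inr : G ⟶ F ⊞ G).hom.app U) b) :=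
      ConcreteCategory.congr_hom ((biprod.inr : G ⟶ F ⊞ G).hom.naturality i) b
    refine ⟨((biprod.inl : F ⟶ F ⊞ G).hom.app U) a + ((biprod.inr : G ⟶ F ⊞ G).hom.app U) b, ?_⟩
    rw [map_add, ← e1, ← e2, ha, hb]
    have h := congrArg (fun φ : F ⊞ G ⟶ F ⊞ G => (φ.hom.app V) s) (biprod.total (X := F) (Y := G))
    exact h

theorem flasque_of_iso {F G : Sh X} (e : F ≅ G) (hF : TopCat.Presheaf.IsFlasque F.obj) :
    TopCat.Presheaf.IsFlasque G.obj where
  epi {U V} i := by
    have hF' := hF.epi i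
    have h1 : G.obj.map i = e.inv.hom.app U ≫ F.obj.map i ≫ e.hom.hom.app V := by
      rw [e.hom.hom.naturality i, ← Category.assoc, ← NatTrans.comp_app]
      have : e.inv.hom ≫ e.hom.hom = 𝟙 G.obj := congrArg (fun φ => φ.hom) e.inv_hom_id
      rw [this]
      simp
    rw [h1]
    have h2 : IsIso (e.inv.hom.app U) := ((sheafToPresheaf _ _).mapIso e.symm |>.app U).isIso_hom
    have h3 : IsIso (e.hom.hom.app V) := ((sheafToPresheaf _ _).mapIso e |>.app V).isIso_hom
    exact epi_comp' inferInstance (epi_comp' hF' inferInstance)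


/-- Bounded below complexes of flasque sheaves. -/
def BF (X : TopCat.{u}) : ObjectProperty (CochainComplex (Sh X) ℤ) :=
  fun K => BB K ∧ ∀ n, TopCat.Presheaf.IsFlasque (K.X n).obj

/-- The terms of a mapping cone. -/
noncomputable def coneXIso {A : Type*} [Category* A] [Abelian A] {K L : CochainComplex A ℤ} (f : K ⟶ L) (n : ℤ) :
    (CochainComplex.mappingCone f).X n ≅ K.X (n + 1) ⊞ L.X n :=
  HomologicalComplex.homotopyCofiber.XIsoBiprod f n (n + 1) (by simp)

theorem bf_cone {K L : CochainComplex (Sh X) ℤ} (f : K ⟶ L) (hK : BF X K) (hL : BF X L) :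
    BF X (CochainComplex.mappingCone f) := by
  obtain ⟨⟨a, ha⟩, fK⟩ := hK
  obtain ⟨⟨b, hb⟩, fL⟩ := hL
  refine ⟨⟨min (a - 1) b, fun i hi => ?_⟩, fun n => ?_⟩
  · refine IsZero.of_iso ?_ (coneXIso f i)
    rw [biprod_isZero_iff]
    exact ⟨ha _ (by lia), hb _ (by lia)⟩
  · exact flasque_of_iso (coneXIso f n).symm (flasque_biprod _ _ (fK _) (fL _))

theorem quasiIso_sections {K L : CochainComplex (Sheaf (Opens.grothendieckTopology X) AddCommGrpCat.{u}) ℤ}
    (hK : BB K) (hL : BB L)
    (fK : ∀ n, TopCat.Presheaf.IsFlasque (K.X n).obj) (fL : ∀ n, TopCat.Presheaf.IsFlasque (L.X n).obj)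
    (f : K ⟶ L) [hf : QuasiIso f] (U : Opens X) : QuasiIso (((Γ U).mapHomologicalComplex (up ℤ)).map f) :=
  Groth.Agent.Dcoh.DerHo.quasiIso_map_of_acyclic (Γ U) (BF X) bf_cone
    (fun _ hK hac => acyclic_sections hK.1 hac hK.2 U) f ⟨hK, fK⟩ ⟨hL, fL⟩ hf

theorem quasiIso_of_sections {K L : CochainComplex (Sheaf (Opens.grothendieckTopology X) AddCommGrpCat.{u}) ℤ}
    (f : K ⟶ L) (B : Set (Opens X)) (hB : TopologicalSpace.Opens.IsBasis B)
    (h : ∀ U ∈ B, QuasiIso (((Γ U).mapHomologicalComplex (up ℤ)).map f)) : QuasiIso f := by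
  have hcov : Groth.Agent.CohtopB.SectHomology.IsCovering (Opens.grothendieckTopology X) B :=
    Groth.Agent.CohtopB.BasisCover.isCovering_of_isBasis hB
  rw [quasiIso_iff]
  intro n
  rw [quasiIsoAt_iff_isIso_homologyMap]
  refine Groth.Agent.CohtopB.SectHomology.isIso_homologyMap_of_sections (Opens.grothendieckTopology X) hcov f n fun U hU => ?_
  have h1 := h U hU
  rw [quasiIso_iff] at h1
  have h2 := h1 n
  rw [quasiIsoAt_iff_isIso_homologyMap] at h2
  exact h2

/-- The stalk functor on abelian sheaves is additive. -/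
instance additive_stk (x : X) : (stk (X := X) x).Additive where
  map_add {F G f g} := by
    refine TopCat.Presheaf.stalk_hom_ext _ fun U hU => ?_
    change TopCat.Presheaf.germ F.obj U x hU ≫ (TopCat.Presheaf.stalkFunctor AddCommGrpCat.{u} x).map (f.hom + g.hom) =
      TopCat.Presheaf.germ F.obj U x hU ≫ ((TopCat.Presheaf.stalkFunctor AddCommGrpCat.{u} x).map f.hom +
        (TopCat.Presheaf.stalkFunctor AddCommGrpCat.{u} x).map g.hom)
    rw [TopCat.Presheaf.stalkFunctor_map_germ, Preadditive.comp_add, TopCat.Presheaf.stalkFunctor_map_germ,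
      TopCat.Presheaf.stalkFunctor_map_germ, NatTrans.app_add, Preadditive.add_comp]

instance preservesFiniteLimits_stk (x : X) : PreservesFiniteLimits (stk (X := X) x) :=
  inferInstanceAs (PreservesFiniteLimits (TopCat.Sheaf.forget AddCommGrpCat.{u} X ⋙ TopCat.Presheaf.stalkFunctor _ x))

instance preservesFiniteColimits_stk (x : X) : PreservesFiniteColimits (stk (X := X) x) :=
  inferInstanceAs (PreservesFiniteColimits (TopCat.Sheaf.forget AddCommGrpCat.{u} X ⋙ TopCat.Presheaf.stalkFunctor _ x))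

theorem quasiIso_stalk {K L : CochainComplex (Sheaf (Opens.grothendieckTopology X) AddCommGrpCat.{u}) ℤ}
    (f : K ⟶ L) [QuasiIso f] (x : X) : QuasiIso (((stk x).mapHomologicalComplex (up ℤ)).map f) := by
  infer_instance

theorem quasiIso_of_stalks {K L : CochainComplex (Sheaf (Opens.grothendieckTopology X) AddCommGrpCat.{u}) ℤ}
    (f : K ⟶ L) (h : ∀ x : X, QuasiIso (((stk x).mapHomologicalComplex (up ℤ)).map f)) : QuasiIso f := by
  rw [Groth.Agent.Dcoh.DerHo.quasiIso_iff_acyclic_mappingCone]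
  intro n
  rw [HomologicalComplex.exactAt_iff' _ (n - 1) n (n + 1) (by simp) (by simp)]
  refine (TopCat.Sheaf.exact_iff_stalkFunctor_map_exact _).2 fun x => ?_
  have h3 := h x
  rw [Groth.Agent.Dcoh.DerHo.quasiIso_iff_acyclic_mappingCone] at h3
  have h4 := (h3 n).of_iso (CochainComplex.mappingCone.mapHomologicalComplexIso f (stk x)).symm
  rw [HomologicalComplex.exactAt_iff' _ (n - 1) n (n + 1) (by simp) (by simp)] at h4
  exact h4

end K781.Flq
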